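import Cfsg.Agent.Mrg.Omega.NOne.LemmaT
import Cfsg.Agent.GTwoFour.Tools


/-!
# (N6) of THEOREM WR (#15037, helper675), steps 1-4: the spread

`U ≤ V` a summand with the line `L = {l x}`, `U ∩ Q = L`; `[U, Q] = L` with `[u, w] = l (br u * nu w)`,
`E = V ∩ Q` central in `Q = O₂(C)`, `U ≰ Q`.

`spread`: there are `D ≤ E` with `E = L D`, `L ∩ D = 1`, and for every `a ≠ 0` an element `ρ ∈ C` which
centralises `D` and acts on `L` as the scalar `a`.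
-/

set_option autoImplicit false
set_option linter.unusedSectionVars false

namespace Cfsg.Agent.Omega.NO1.NSix

open Subgroup Cfsg Cfsg.Agent.Omega.NoFF.Basic Cfsg.Agent.Omega.NOne.Frame
open Cfsg.Agent.Omega.NOne.NearFF Cfsg.Agent.Omega.NOne
open Cfsg.Agent.ZN (o2)
open Cfsg.Agent.MinSimple.VModule (le_normalizer_o2 o2_isPGroup o2_le le_o2)
open scoped Pointwise

universe u

variable {G : Type u} [Group G]

/-- A summand `U` of `V` with its line `L = {l x}`. -/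
structure Sp (F : Type) [Field F] (V Q U : Subgroup G) where
  l : F → G
  br : G → F
  nu : G → F
  UV : U ≤ V
  l_add : ∀ x y, l (x + y) = l x * l y
  l_one : ∀ x, l x = 1 → x = 0
  l_U : ∀ x, l x ∈ U
  l_Q : ∀ x, l x ∈ Q
  br_surj : ∀ a, ∃ u ∈ U, br u = a
  nu_mul : ∀ w ∈ Q, ∀ f ∈ Q, nu (w * f) = nu w + nu f
  act : ∀ u ∈ U, ∀ w ∈ Q, u * w * u⁻¹ * w⁻¹ = l (br u * nu w)
  cent : ∀ e ∈ V ⊓ Q, ∀ w ∈ Q, w * e = e * w

/-- The ambient facts. -/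
structure Am (C V : Subgroup G) : Prop where
  VC : V ≤ C
  Vc : V ≤ centralizer (V : Set G)
  V2 : ∀ w ∈ V, w ^ 2 = 1
  QV : o2 C ≤ normalizer (V : Set G)

/-- The frame. -/
structure Fm {F : Type} [Field F] {C V U : Subgroup G} (M : Sp F V (o2 C) U) (y : G) : Prop where
  yC : y ∈ C
  yX : y ∈ X U y
  min : ∀ x ∈ C, Nat.card (X U x) < Nat.card (X U y) → IsPGroup 2 (X U x)
  inj : ∀ f ∈ MulAut.conj y • (V ⊓ o2 C), M.nu f = 0 → f ∈ V ⊓ o2 C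
  gen : ∀ e ∈ V ⊓ o2 C, ∃ x, M.l x * e⁻¹ ∈ (V ⊓ o2 C) ⊓ MulAut.conj y • (V ⊓ o2 C)
  tri : ∀ x, M.l x ∈ MulAut.conj y • (V ⊓ o2 C) → x = 0

section

variable {F : Type} [Field F] {C V U : Subgroup G}

section basic

variable (M : Sp F V (o2 C) U)
include M

theorem l_zero : M.l 0 = 1 := by
  have h := M.l_add 0 0
  rw [add_zero] at h
  exact left_eq_mul.1 h

theorem l_E (x : F) : M.l x ∈ V ⊓ o2 C := ⟨M.UV (M.l_U x), M.l_Q x⟩

theorem l_inv (x : F) : (M.l x)⁻¹ = M.l (-x) := by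
  rw [inv_eq_iff_mul_eq_one, ← M.l_add, add_neg_cancel, l_zero]

end basic

variable {M : Sp F V (o2 C) U} (h : Am C V)
include h

theorem Am.comm {a b : G} (ha : a ∈ V) (hb : b ∈ V) : a * b = b * a := comm_of_le_centralizer h.Vc ha hb

theorem Am.U_le_C (M : Sp F V (o2 C) U) : U ≤ C := M.UV.trans h.VC

theorem norm_Q {x w : G} (hx : x ∈ C) (hw : w ∈ o2 C) : x * w * x⁻¹ ∈ o2 C :=
  norm_mem (le_normalizer_o2 C hx) hw

theorem norm_Q' {x w : G} (hx : x ∈ C) (hw : w ∈ o2 C) : x⁻¹ * w * x ∈ o2 C :=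
  norm_mem' (le_normalizer_o2 C hx) hw

theorem conj_E_le {x : G} (hx : x ∈ C) : MulAut.conj x • (V ⊓ o2 C) ≤ o2 C := by
  intro e he
  obtain ⟨a, ha, rfl⟩ := mem_conj'.1 he
  exact norm_Q h hx ha.2

/-- the conjugates of `E` are central in `Q` -/
theorem conj_cent (M : Sp F V (o2 C) U) {x e w : G} (hx : x ∈ C) (he : e ∈ MulAut.conj x • (V ⊓ o2 C))
    (hw : w ∈ o2 C) : w * e = e * w := by
  obtain ⟨a, ha, rfl⟩ := mem_conj'.1 he
  have h1 := M.cent a ha _ (norm_Q' h hx hw)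
  calc w * (x * a * x⁻¹) = x * (x⁻¹ * w * x * a) * x⁻¹ := by group
    _ = x * (a * (x⁻¹ * w * x)) * x⁻¹ := by rw [h1]
    _ = x * a * x⁻¹ * w := by group

/-- the action of a conjugate of `U` on `Q` -/
theorem act_conj (M : Sp F V (o2 C) U) {x u w : G} (hx : x ∈ C) (hu : u ∈ U) (hw : w ∈ o2 C) :
    x * u * x⁻¹ * w * (x * u * x⁻¹)⁻¹ * w⁻¹ = x * M.l (M.br u * M.nu (x⁻¹ * w * x)) * x⁻¹ := by
  rw [← M.act u hu _ (norm_Q' h hx hw)]
  group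

theorem nu_E (M : Sp F V (o2 C) U) {e : G} (he : e ∈ V ⊓ o2 C) : M.nu e = 0 := by
  obtain ⟨u, hu, h1⟩ := M.br_surj 1
  have h2 := M.act u hu e he.2
  rw [h1, one_mul, h.comm (M.UV hu) he.1, mul_inv_cancel_right, mul_inv_cancel] at h2
  exact M.l_one _ h2.symm

/-- `W = E E^y` -/
theorem mem_W {y w : G} (hy : y ∈ C)
    (hw : w ∈ (V ⊓ o2 C) ⊔ MulAut.conj y • (V ⊓ o2 C)) (M : Sp F V (o2 C) U) :
    ∃ e ∈ V ⊓ o2 C, ∃ f ∈ MulAut.conj y • (V ⊓ o2 C), e * f = w := by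
  have h1 : MulAut.conj y • (V ⊓ o2 C) ≤ normalizer ((V ⊓ o2 C : Subgroup G) : Set G) := by
    refine le_normalizer_of_comm fun a ha b hb => ?_
    rw [M.cent b hb a (conj_E_le h hy ha), mul_inv_cancel_right, mul_inv_cancel]
    exact one_mem _
  have h3 : w ∈ (((V ⊓ o2 C) ⊔ MulAut.conj y • (V ⊓ o2 C) : Subgroup G) : Set G) := hw
  rw [Subgroup.coe_mul_of_right_le_normalizer_left _ _ h1] at h3
  obtain ⟨e, he, f, hf, rfl⟩ := h3
  exact ⟨e, he, f, hf, rfl⟩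

namespace Fm

variable {y : G} (K : Fm M y)
include K

/-- `W = E E^y` -/
def W (_ : Fm M y) : Subgroup G := (V ⊓ o2 C) ⊔ MulAut.conj y • (V ⊓ o2 C)

/-- `D = E ∩ E^y` -/
def D (_ : Fm M y) : Subgroup G := (V ⊓ o2 C) ⊓ MulAut.conj y • (V ⊓ o2 C)

theorem X_le_C : X U y ≤ C := sup_le (h.U_le_C M) (Choice.conj_le_of_mem (h.U_le_C M) K.yC)

theorem W_le_Q : K.W ≤ o2 C := sup_le inf_le_right (conj_E_le h K.yC)

omit h in
theorem E_le_W : V ⊓ o2 C ≤ K.W := le_sup_left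

omit h in
theorem E'_le_W : MulAut.conj y • (V ⊓ o2 C) ≤ K.W := le_sup_right

/-- `X` centralises `D` -/
theorem cent_D {x d : G} (hx : x ∈ X U y) (hd : d ∈ K.D) : x * d = d * x :=
  cent_of_fr h.Vc x (sup_le_sup M.UV (conj_le_iff.2 M.UV) hx) d hd

/-- `W` is abelian -/
theorem W_comm {a b : G} (ha : a ∈ K.W) (hb : b ∈ K.W) : a * b = b * a := by
  obtain ⟨e, he, f, hf, rfl⟩ := mem_W h K.yC ha M
  have hbQ := K.W_le_Q h hb
  have h1 := M.cent e he b hbQ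
  have h2 := conj_cent h M K.yC hf hbQ
  rw [mul_assoc, ← h2, ← mul_assoc, ← h1, mul_assoc]

/-- `X` normalises `W` -/
theorem X_norm_W : X U y ≤ normalizer (K.W : Set G) := by
  have key : ∀ x ∈ C, MulAut.conj x • (V ⊓ o2 C) ≤ K.W → MulAut.conj x • U ≤ normalizer (K.W : Set G) := by
    intro x hx hxW
    refine le_normalizer_of_comm fun a ha w hw => ?_
    obtain ⟨u, hu, rfl⟩ := mem_conj'.1 ha
    rw [act_conj h M hx hu (K.W_le_Q h hw)]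
    exact hxW (Frame.conj_mem (l_E M _))
  refine sup_le ?_ (key y K.yC K.E'_le_W)
  have h1 := key 1 (one_mem C) (by rw [map_one, one_smul]; exact K.E_le_W)
  rwa [map_one, one_smul] at h1

theorem conj_W {x w : G} (hx : x ∈ X U y) (hw : w ∈ K.W) : x * w * x⁻¹ ∈ K.W :=
  norm_mem (K.X_norm_W h hx) hw

theorem conj_W' {x w : G} (hx : x ∈ X U y) (hw : w ∈ K.W) : x⁻¹ * w * x ∈ K.W :=
  norm_mem' (K.X_norm_W h hx) hw

theorem conj_E_le_W {x : G} (hx : x ∈ X U y) : MulAut.conj x • (V ⊓ o2 C) ≤ K.W := by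
  intro e he
  obtain ⟨a, ha, rfl⟩ := mem_conj'.1 he
  exact K.conj_W h hx (K.E_le_W ha)

/-- the kernel of `ν` on `W` is `E` -/
theorem mem_E_of_nu {w : G} (hw : w ∈ K.W) (h0 : M.nu w = 0) : w ∈ V ⊓ o2 C := by
  obtain ⟨e, he, f, hf, rfl⟩ := mem_W h K.yC hw M
  rw [M.nu_mul e he.2 f (conj_E_le h K.yC hf), nu_E h M he, zero_add] at h0
  exact mul_mem he (K.inj f hf h0)

/-- `D ≤ E^x` for `x ∈ X` -/
theorem D_le {x : G} (hx : x ∈ X U y) : K.D ≤ MulAut.conj x • (V ⊓ o2 C) := by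
  intro d hd
  rw [mem_conj, mul_assoc, ← K.cent_D h hx hd, inv_mul_cancel_left]
  exact hd.1

/-- `[w, U^x] = L^x` for `w ∈ W - E^x` -/
theorem exists_u {x w : G} (hx : x ∈ X U y) (hw : w ∈ K.W) (hwE : w ∉ MulAut.conj x • (V ⊓ o2 C)) (c : F) :
    ∃ u ∈ U, x * u * x⁻¹ * w * (x * u * x⁻¹)⁻¹ * w⁻¹ = x * M.l c * x⁻¹ := by
  have h1 : M.nu (x⁻¹ * w * x) ≠ 0 := fun h0 => hwE (mem_conj.2 (K.mem_E_of_nu h (K.conj_W' h hx hw) h0))
  obtain ⟨u, hu, hu1⟩ := M.br_surj (c / M.nu (x⁻¹ * w * x))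
  refine ⟨u, hu, ?_⟩
  rw [act_conj h M (K.X_le_C h hx) hu (K.W_le_Q h hw), hu1, div_mul_cancel₀ _ h1]

/-- `E^x ≤ A` if `L^x ≤ A` and `D ≤ A` -/
theorem conj_le_of {x : G} (hx : x ∈ X U y) {A : Subgroup G} (hA : ∀ c, x * M.l c * x⁻¹ ∈ A) (hD : K.D ≤ A) :
    MulAut.conj x • (V ⊓ o2 C) ≤ A := by
  intro e he
  obtain ⟨a, ha, rfl⟩ := mem_conj'.1 he
  obtain ⟨c, hc⟩ := K.gen a ha
  have h1 : x * (M.l c * a⁻¹) * x⁻¹ ∈ A := by
    rw [K.cent_D h hx hc, mul_inv_cancel_right]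
    exact hD hc
  have h2 := mul_mem (inv_mem h1) (hA c)
  have e1 : (x * (M.l c * a⁻¹) * x⁻¹)⁻¹ * (x * M.l c * x⁻¹) = x * a * x⁻¹ := by group
  rwa [e1] at h2

/-- **SPREAD.** -/
theorem spread [Finite G] {x a : G} (hx : x ∈ X U y) (ha : a ∈ V ⊓ o2 C)
    (hax : a ∈ MulAut.conj x • (V ⊓ o2 C)) (haD : a ∉ K.D) : MulAut.conj x • (V ⊓ o2 C) = V ⊓ o2 C := by
  have : Fact (Nat.Prime 2) := ⟨Nat.prime_two⟩
  have hxC := K.X_le_C h hx
  have hTX : X U x ≤ X U y := sup_le le_sup_left (Choice.conj_le_of_mem le_sup_left hx)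
  -- `A = E ∩ E^x` is centralised by `T`
  have hAT : ∀ b ∈ V ⊓ o2 C, b ∈ MulAut.conj x • (V ⊓ o2 C) → ∀ t ∈ X U x, t * b = b * t := fun b hb hbx t ht =>
    cent_of_fr h.Vc t (sup_le_sup M.UV (conj_le_iff.2 M.UV) ht) b ⟨hb, hbx⟩
  by_cases hT : IsPGroup 2 (X U x)
  · by_contra hne
    have hcard : Nat.card (MulAut.conj x • (V ⊓ o2 C) : Subgroup G) = Nat.card (V ⊓ o2 C : Subgroup G) :=
      Choice.card_conj _ _
    have hn1 : ¬ V ⊓ o2 C ≤ MulAut.conj x • (V ⊓ o2 C) := fun h1 =>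
      hne (Subgroup.eq_of_le_of_card_ge h1 hcard.le).symm
    have hn2 : ¬ MulAut.conj x • (V ⊓ o2 C) ≤ V ⊓ o2 C := fun h1 =>
      hne (Subgroup.eq_of_le_of_card_ge h1 hcard.ge)
    have hTW : X U x ≤ normalizer (K.W : Set G) := hTX.trans (K.X_norm_W h)
    have hW2 : IsPGroup 2 K.W := (o2_isPGroup C).to_le (K.W_le_Q h)
    have hY2 : IsPGroup 2 (X U x ⊔ K.W : Subgroup G) := hT.to_sup_of_normal_right' hW2 hTW
    have hYW : X U x ⊔ K.W ≤ normalizer (K.W : Set G) := sup_le hTW le_normalizer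
    have hA' : X U x ⊔ K.W ≤ centralizer (((V ⊓ o2 C) ⊓ MulAut.conj x • (V ⊓ o2 C) : Subgroup G) : Set G) := by
      refine sup_le (fun t ht => mem_centralizer_iff.2 fun b hb => ?_)
        (fun w hw => mem_centralizer_iff.2 fun b hb => ?_)
      · exact (hAT b hb.1 hb.2 t ht).symm
      · exact K.W_comm h (K.E_le_W hb.1) hw
    obtain ⟨e0, he0, he0x⟩ := SetLike.not_le_iff_exists.1 hn1
    obtain ⟨n, hnW, hnA, hn⟩ := Cfsg.Agent.GTwoFour.Tools.exists_fixed_mod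
      (M := (V ⊓ o2 C) ⊓ MulAut.conj x • (V ⊓ o2 C)) hY2 (le_sup_right : K.W ≤ X U x ⊔ K.W)
      (fun t ht w hw => norm_mem (hYW ht) hw)
      (fun t ht b hb => by
        have h1 := mem_centralizer_iff.1 (hA' ht) b hb
        rw [← h1, mul_inv_cancel_right]
        exact hb) ⟨e0, K.E_le_W he0, fun h1 => he0x h1.2⟩
    by_cases hnE : n ∈ V ⊓ o2 C
    · have hnx : n ∉ MulAut.conj x • (V ⊓ o2 C) := fun h1 => hnA ⟨hnE, h1⟩
      refine hn2 ((K.conj_le_of h hx (A := (V ⊓ o2 C) ⊓ MulAut.conj x • (V ⊓ o2 C)) (fun c => ?_)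
        (le_inf inf_le_left (K.D_le h hx))).trans inf_le_left)
      obtain ⟨u, hu, h1⟩ := K.exists_u h hx hnW hnx c
      rw [← h1]
      exact hn _ (mem_sup_left (mem_sup_right (Frame.conj_mem hu)))
    · have h1x : (1 : G) ∈ X U y := one_mem _
      have e1 : MulAut.conj (1 : G) • (V ⊓ o2 C) = V ⊓ o2 C := by rw [map_one, one_smul]
      have h2 := K.conj_le_of h h1x (A := (V ⊓ o2 C) ⊓ MulAut.conj x • (V ⊓ o2 C)) (fun c => ?_)
        (le_inf inf_le_left (K.D_le h hx))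
      · rw [e1] at h2
        exact hn1 (h2.trans inf_le_right)
      · obtain ⟨u, hu, h1⟩ := K.exists_u h h1x hnW (by rw [e1]; exact hnE) c
        rw [← h1]
        refine hn _ (mem_sup_left (mem_sup_left ?_))
        rw [one_mul, inv_one, mul_one]
        exact hu
  · -- `T = X`
    exfalso
    have h1 : X U x = X U y := Subgroup.eq_of_le_of_card_ge hTX (by
      by_contra hlt
      exact hT (K.min x hxC (not_le.1 hlt)))
    have hy : y ∈ X U x := by rw [h1]; exact K.yX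
    have h2 := hAT a ha hax y hy
    refine haD ⟨ha, mem_conj.2 ?_⟩
    rw [mul_assoc, ← h2, inv_mul_cancel_left]
    exact ha

/-- an element of `L^y` is not in `E` -/
theorem eq_zero_of_mem {c : F} (hc : y * M.l c * y⁻¹ ∈ V ⊓ o2 C) : c = 0 := by
  apply K.tri
  have h1 : y * M.l c * y⁻¹ ∈ K.D := ⟨hc, Frame.conj_mem (l_E M c)⟩
  have h2 := K.cent_D h K.yX h1
  have h3 : M.l c = y * M.l c * y⁻¹ := by
    have h4 : y * (y * M.l c * y⁻¹) * y⁻¹ = y * M.l c * y⁻¹ := by rw [h2, mul_inv_cancel_right]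
    have h5 : y⁻¹ * (y * (y * M.l c * y⁻¹) * y⁻¹) * y = y⁻¹ * (y * M.l c * y⁻¹) * y := by rw [h4]
    have e1 : y⁻¹ * (y * (y * M.l c * y⁻¹) * y⁻¹) * y = y * M.l c * y⁻¹ := by group
    have e2 : y⁻¹ * (y * M.l c * y⁻¹) * y = M.l c := by group
    rw [e1, e2] at h5
    exact h5.symm
  rw [h3]
  exact Frame.conj_mem (l_E M c)

/-- **Step 4.**  For `a ≠ 0` there is `n ∈ X` with `n f n⁻¹ = l (a ν(f))` for `f ∈ L^y`. -/
theorem exists_n [Finite G] {a : F} (ha : a ≠ 0) :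
    ∃ n ∈ X U y, ∀ c, n * (y * M.l c * y⁻¹) * n⁻¹ = M.l (a * M.nu (y * M.l c * y⁻¹)) := by
  obtain ⟨v, hv, hva⟩ := M.br_surj a
  have hvX : v ∈ X U y := mem_sup_left hv
  -- `[v, f] = l (a ν f)`
  have hvf : ∀ w ∈ o2 C, v * w * v⁻¹ = M.l (a * M.nu w) * w := fun w hw => by
    rw [← hva, ← M.act v hv w hw, inv_mul_cancel_right]
  have hf : ∀ c, y * M.l c * y⁻¹ ∈ MulAut.conj y • (V ⊓ o2 C) := fun c => Frame.conj_mem (l_E M c)
  have hfW : ∀ c, y * M.l c * y⁻¹ ∈ K.W := fun c => K.E'_le_W (hf c)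
  have hfQ : ∀ c, y * M.l c * y⁻¹ ∈ o2 C := fun c => K.W_le_Q h (hfW c)
  have hlW : ∀ c, M.l c ∈ K.W := fun c => K.E_le_W (l_E M c)
  -- the elements `f₀`, `l₀`
  have hf0 : M.nu (y * M.l 1 * y⁻¹) ≠ 0 := fun h0 =>
    one_ne_zero (K.eq_zero_of_mem h (K.mem_E_of_nu h (hfW 1) h0))
  have hl0 : M.l (a * M.nu (y * M.l 1 * y⁻¹)) ∉ MulAut.conj y • (V ⊓ o2 C) := fun h1 =>
    mul_ne_zero ha hf0 (K.tri _ h1)
  obtain ⟨u, hu, hu1⟩ := K.exists_u h K.yX (hlW _) hl0 1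
  have hu' : y * u * y⁻¹ ∈ MulAut.conj y • U := Frame.conj_mem hu
  have huX : y * u * y⁻¹ ∈ X U y := mem_sup_right hu'
  generalize htdef : y * u * y⁻¹ = t at hu1 hu' huX
  set l₀ := M.l (a * M.nu (y * M.l 1 * y⁻¹)) with hl0def
  set f₀ := y * M.l 1 * y⁻¹ with hf0def
  have hul : t * l₀ * t⁻¹ = f₀ * l₀ := by rw [← hu1, inv_mul_cancel_right]
  have hx : t⁻¹ * v * y ∈ X U y := mul_mem (mul_mem (inv_mem huX) hvX) K.yX
  have hvf0 : v * f₀ * v⁻¹ = l₀ * f₀ := hvf f₀ (hfQ 1)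
  have hsp := K.spread h hx (a := l₀) (l_E M _) (by
    rw [mem_conj]
    have e1 : (t⁻¹ * v * y)⁻¹ * l₀ * (t⁻¹ * v * y) = y⁻¹ * (v⁻¹ * (t * l₀ * t⁻¹) * v) * y := by group
    rw [e1, hul, ← K.W_comm h (hlW _) (hfW 1), ← hvf0]
    have e2 : y⁻¹ * (v⁻¹ * (v * f₀ * v⁻¹) * v) * y = M.l 1 := by rw [hf0def]; group
    rw [e2]
    exact l_E M 1) (fun h1 => hl0 h1.2)
  -- `t (l f) t⁻¹`
  have hmain : ∀ c, t * M.l (a * M.nu (y * M.l c * y⁻¹)) * t⁻¹ =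
      y * M.l c * y⁻¹ * M.l (a * M.nu (y * M.l c * y⁻¹)) := by
    intro c
    generalize hfdef : y * M.l c * y⁻¹ = f
    have hfc := hf c
    have hfcW := hfW c
    have hfcQ := hfQ c
    rw [hfdef] at hfc hfcW hfcQ
    generalize hldef : M.l (a * M.nu f) = l
    have hlc : l ∈ V ⊓ o2 C := by rw [← hldef]; exact l_E M _
    have hlcW : l ∈ K.W := K.E_le_W hlc
    have hvfc : v * f * v⁻¹ = l * f := by rw [hvf f hfcQ, hldef]
    -- `t⁻¹ (l f) t ∈ E`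
    have h1 : t⁻¹ * (l * f) * t ∈ V ⊓ o2 C := by
      rw [← hvfc, ← hsp, mem_conj, ← hfdef]
      have e1 : (t⁻¹ * v * y)⁻¹ * (t⁻¹ * (v * (y * M.l c * y⁻¹) * v⁻¹) * t) * (t⁻¹ * v * y) = M.l c := by group
      rw [e1]
      exact l_E M c
    -- `t` centralises `f`
    have htf : t * f = f * t :=
      comm_of_le_centralizer (conj_le_centralizer h.Vc) (conj_le_iff.2 M.UV hu') (conj_le_iff.2 inf_le_left hfc)
    -- `t⁻¹ l t l⁻¹ ∈ L^y`
    obtain ⟨c', hc'⟩ : ∃ c', t⁻¹ * l * t * l⁻¹ = y * M.l c' * y⁻¹ := by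
      have h2 := act_conj h M K.yC (inv_mem hu) (K.W_le_Q h hlcW)
      refine ⟨M.br u⁻¹ * M.nu (y⁻¹ * l * y), ?_⟩
      rw [← h2, ← htdef]
      group
    have h3 : t⁻¹ * (l * f) * t = t⁻¹ * l * t * l⁻¹ * l * f := by
      have e1 : t⁻¹ * (l * f) * t = t⁻¹ * l * (f * t) := by group
      rw [e1, ← htf]
      group
    rw [h3, hc'] at h1
    have h4 : y * M.l c' * y⁻¹ * f ∈ V ⊓ o2 C := by
      have e1 : y * M.l c' * y⁻¹ * l * f = l * (y * M.l c' * y⁻¹ * f) := by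
        rw [K.W_comm h (hfW c') hlcW, mul_assoc]
      rw [e1] at h1
      exact (mul_mem_cancel_left hlc).1 h1
    have h5 : y * M.l c' * y⁻¹ * f = 1 := by
      have e1 : y * M.l c' * y⁻¹ * f = y * M.l (c' + c) * y⁻¹ := by
        rw [← hfdef, M.l_add]; group
      rw [e1] at h4 ⊢
      rw [K.eq_zero_of_mem h h4, l_zero, mul_one, mul_inv_cancel]
    -- so `t⁻¹ l t = f⁻¹ l`
    have h6 : t⁻¹ * l * t = f⁻¹ * l := by
      rw [← hc'] at h5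
      have e1 : t⁻¹ * l * t = (t⁻¹ * l * t * l⁻¹ * f) * f⁻¹ * l := by group
      rw [e1, h5, one_mul]
    have h7 : l = f⁻¹ * (t * l * t⁻¹) := by
      have e1 : t * (t⁻¹ * l * t) * t⁻¹ = l := by group
      rw [h6] at e1
      have e2 : t * (f⁻¹ * l) * t⁻¹ = (t * f⁻¹ * t⁻¹) * (t * l * t⁻¹) := by group
      have e3 : t * f⁻¹ * t⁻¹ = f⁻¹ := by
        rw [← conj_inv, htf, mul_inv_cancel_right]
      rw [e2, e3] at e1
      exact e1.symm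
    conv_rhs => rw [h7]
    group
  refine ⟨v * t * v, mul_mem (mul_mem hvX huX) hvX, fun c => ?_⟩
  have h1 := hmain c
  generalize hfdef : y * M.l c * y⁻¹ = f at h1 ⊢
  have hfc := hf c
  have hfcQ := hfQ c
  rw [hfdef] at hfc hfcQ
  generalize hldef : M.l (a * M.nu f) = l at h1 ⊢
  have hlc : l ∈ V ⊓ o2 C := by rw [← hldef]; exact l_E M _
  have hvfc : v * f * v⁻¹ = l * f := by rw [hvf f hfcQ, hldef]
  have htf : t * f = f * t :=
    comm_of_le_centralizer (conj_le_centralizer h.Vc) (conj_le_iff.2 M.UV hu') (conj_le_iff.2 inf_le_left hfc)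
  have hff : f * f = 1 := by
    obtain ⟨b, hb, rfl⟩ := mem_conj'.1 hfc
    have := h.V2 b hb.1
    rw [pow_two] at this
    have e1 : y * b * y⁻¹ * (y * b * y⁻¹) = y * (b * b) * y⁻¹ := by group
    rw [e1, this, mul_one, mul_inv_cancel]
  have hlf : l * f = f * l := K.W_comm h (K.E_le_W hlc) (K.E'_le_W hfc)
  have hvl : v * l = l * v := h.comm (M.UV hv) hlc.1
  calc v * t * v * f * (v * t * v)⁻¹ = v * (t * (v * f * v⁻¹) * t⁻¹) * v⁻¹ := by group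
    _ = v * ((t * l * t⁻¹) * (t * f * t⁻¹)) * v⁻¹ := by rw [hvfc]; group
    _ = v * (f * l * f) * v⁻¹ := by rw [h1, htf, mul_inv_cancel_right]
    _ = v * (l * (f * f)) * v⁻¹ := by rw [← hlf, mul_assoc l f f]
    _ = l := by rw [hff, mul_one, hvl, mul_inv_cancel_right]

/-- **Step 4, conclusion.** -/
theorem exists_rho [Finite G] [Finite F] {a : F} (ha : a ≠ 0) :
    ∃ n ∈ X U y, ∀ x, n * M.l x * n⁻¹ = M.l (a * x) := by
  obtain ⟨n1, hn1, h1⟩ := K.exists_n h (one_ne_zero (α := F))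
  obtain ⟨n2, hn2, h2⟩ := K.exists_n h ha
  have hfQ : ∀ c, y * M.l c * y⁻¹ ∈ o2 C := fun c => K.W_le_Q h (K.E'_le_W (Frame.conj_mem (l_E M c)))
  -- the additive map `μ`
  have hadd : ∀ c d, M.nu (y * M.l (c + d) * y⁻¹) = M.nu (y * M.l c * y⁻¹) + M.nu (y * M.l d * y⁻¹) := by
    intro c d
    rw [← M.nu_mul _ (hfQ c) _ (hfQ d), M.l_add]
    congr 1
    group
  let μ : F →+ F := AddMonoidHom.mk' (fun c => M.nu (y * M.l c * y⁻¹)) hadd
  have hinj : Function.Injective μ := by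
    rw [injective_iff_map_eq_zero]
    intro c hc
    exact K.eq_zero_of_mem h (K.mem_E_of_nu h (K.E'_le_W (Frame.conj_mem (l_E M c))) hc)
  have hsurj : Function.Surjective μ := Finite.surjective_of_injective hinj
  refine ⟨n2 * n1⁻¹, mul_mem hn2 (inv_mem hn1), fun x => ?_⟩
  obtain ⟨c, hc⟩ := hsurj x
  have hc' : M.nu (y * M.l c * y⁻¹) = x := hc
  have h3 := h1 c
  have h4 := h2 c
  rw [hc', one_mul] at h3
  rw [hc'] at h4
  rw [← h3, ← h4]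
  group

end Fm

/-- **Existence of the frame.** -/
theorem exists_fm [Finite G] (M : Sp F V (o2 C) U) (hUQ : ¬ U ≤ o2 C)
    (hD : ∀ y ∈ C, y ∈ X U y → ¬ IsPGroup 2 (X U y) →
      (∀ e ∈ V ⊓ o2 C, ∃ x, M.l x * e⁻¹ ∈ (V ⊓ o2 C) ⊓ MulAut.conj y • (V ⊓ o2 C)) →
      ∀ x, M.l x ∈ MulAut.conj y • (V ⊓ o2 C) → x = 0) : ∃ y, Fm M y := by
  have hUC := h.U_le_C M
  obtain ⟨g, hg, hgX, hg2, hmin⟩ := Choice.exists_g hUC hUQ
  have hXC : X U g ≤ C := sup_le hUC (Choice.conj_le_of_mem hUC hg)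
  -- `v ∈ U`, not in `O₂(X)`
  obtain ⟨v, hv, hvo⟩ : ∃ v ∈ U, v ∉ o2 (X U g) := by
    by_contra hcon
    push Not at hcon
    apply hg2
    have h1 : U ≤ o2 (X U g) := hcon
    have h2 : MulAut.conj g • U ≤ o2 (X U g) := by
      intro x hx
      obtain ⟨u, hu, rfl⟩ := mem_conj'.1 hx
      exact norm_mem (le_normalizer_o2 _ hgX) (h1 hu)
    exact (o2_isPGroup _).to_le (sup_le h1 h2)
  have hvX : zpowers v ≤ X U g := zpowers_le.2 (mem_sup_left hv)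
  obtain ⟨y, hy, hyX, hy2, -⟩ := Choice.exists_g hvX fun h1 => hvo (h1 (mem_zpowers v))
  have hyC := hXC hy
  have hvU : zpowers v ≤ U := zpowers_le.2 hv
  have hXy : X (zpowers v) y ≤ X U y := sup_le_sup hvU (conj_le_iff.2 hvU)
  have hle : X U y ≤ X U g := sup_le le_sup_left (Choice.conj_le_of_mem le_sup_left hy)
  have heq : X U y = X U g := by
    refine Subgroup.eq_of_le_of_card_ge hle ?_
    by_contra hlt
    exact hy2 ((hmin y hyC (not_le.1 hlt)).to_le hXy)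
  have hvV := M.UV hv
  have hvQ : v ∉ o2 C := by
    intro hvQ
    apply hvo
    -- `⟨v⟩ ≤ O₂(C) ∩ X ≤ O₂(X)`
    have h1 : o2 C ⊓ X U g ≤ o2 (X U g) := by
      refine le_o2 inf_le_right ((o2_isPGroup C).to_le inf_le_left) ?_
      intro x hx
      rw [mem_normalizer_iff]
      intro z
      have h2 := mem_normalizer_iff.1 (le_normalizer_o2 C (hXC hx)) z
      have h3 := mem_normalizer_iff.1 (le_normalizer hx : x ∈ normalizer ((X U g : Subgroup G) : Set G)) z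
      exact and_congr h2 h3
    exact h1 ⟨hvQ, mem_sup_left hv⟩
  have gQ : MulAut.conj y • o2 C = o2 C := by
    have := le_normalizer_o2 C hyC
    ext x
    rw [mem_conj, mem_normalizer_iff.1 this]
    have e : y * (y⁻¹ * x * y) * y⁻¹ = x := by group
    rw [e]
  have hVQ : V ≤ normalizer (o2 C : Set G) := h.VC.trans (le_normalizer_o2 C)
  have hvV1 : zpowers v ≤ V1 V (o2 C) v := le_sup_right
  have hyX1 : y ∈ X (V1 V (o2 C) v) y :=
    (sup_le_sup hvV1 (conj_le_iff.2 hvV1) : X (zpowers v) y ≤ X (V1 V (o2 C) v) y) hyX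
  have hfr := fr_V1 h.Vc h.QV hVQ hvV gQ hyX1
  have hnear := near_of_fr h.Vc h.V2 h.QV hVQ hvV hvQ hfr
  have hgen : ∀ e ∈ V ⊓ o2 C, ∃ x, M.l x * e⁻¹ ∈ (V ⊓ o2 C) ⊓ MulAut.conj y • (V ⊓ o2 C) := by
    intro e he
    obtain ⟨f, hf, h1⟩ := hnear.surj he
    refine ⟨M.br v * M.nu f, ?_⟩
    rw [← M.act v hv f (conj_E_le h hyC hf)]
    exact h1
  refine ⟨y, hyC, hXy hyX, fun x hx hlt => hmin x hx (heq ▸ hlt), fun f hf h0 => ?_, hgen,
    hD y hyC (hXy hyX) (fun h1 => hy2 (h1.to_le hXy)) hgen⟩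
  have h1 := hnear.inj f hf (by
    rw [M.act v hv f (conj_E_le h hyC hf), h0, mul_zero, l_zero]
    exact one_mem _)
  exact h1.1

/-- **Steps 1-4 of (N6).** -/
theorem spread [Finite G] [Finite F] (M : Sp F V (o2 C) U) (hUQ : ¬ U ≤ o2 C)
    (hD : ∀ y ∈ C, y ∈ X U y → ¬ IsPGroup 2 (X U y) →
      (∀ e ∈ V ⊓ o2 C, ∃ x, M.l x * e⁻¹ ∈ (V ⊓ o2 C) ⊓ MulAut.conj y • (V ⊓ o2 C)) →
      ∀ x, M.l x ∈ MulAut.conj y • (V ⊓ o2 C) → x = 0) :
    ∃ D ≤ V ⊓ o2 C, (∀ z ∈ V ⊓ o2 C, (∀ c ∈ C, c * z = z * c) → z ∈ D) ∧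
      (∀ e ∈ V ⊓ o2 C, ∃ x, M.l x * e ∈ D) ∧ (∀ x, M.l x ∈ D → x = 0) ∧
      ∀ a : F, a ≠ 0 → ∃ ρ ∈ C, (∀ d ∈ D, ρ * d * ρ⁻¹ = d) ∧ ∀ x, ρ * M.l x * ρ⁻¹ = M.l (a * x) := by
  obtain ⟨y, K⟩ := exists_fm h M hUQ hD
  refine ⟨K.D, inf_le_left, fun z hz hc => ⟨hz, mem_conj.2 ?_⟩, fun e he => ?_, fun x hx => K.tri x hx.2,
    fun a ha => ?_⟩
  · rw [mul_assoc, ← hc y K.yC, inv_mul_cancel_left]
    exact hz
  · obtain ⟨x, hx⟩ := K.gen e⁻¹ (inv_mem he)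
    rw [inv_inv] at hx
    exact ⟨x, hx⟩
  · obtain ⟨n, hn, h1⟩ := K.exists_rho h ha
    refine ⟨n, K.X_le_C h hn, fun d hd => ?_, h1⟩
    rw [K.cent_D h hn hd, mul_inv_cancel_right]

end

end Cfsg.Agent.Omega.NO1.NSix
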