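import Cfsg.Agent.Mrg.Omega.Half.Basic
import Cfsg.Agent.Mrg.Omega.NO1.NSix.Spread
import Cfsg.Agent.Mrg.Omega.NO1.Cfg
import Mathlib

section


/-!
# (N6) of THEOREM WR (#15037, helper675), step 0: case (Q)

`M : NatK F S P V ⊥ k`, `V ∩ Q = {v | all second coordinates are 0}`.  Then `Q` fixes the summands and acts as
`(x, y) ↦ (x + ν_i(f) y, y)` on the `i`-th one; `V ∩ Q` is central in `Q`.
-/

set_option autoImplicit false
set_option linter.unusedSectionVars false

namespace Cfsg.Agent.Omega.NO1.NSix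

open Subgroup Cfsg Cfsg.Agent.ZN Cfsg.Agent.Omega.FFThm Cfsg.Agent.Omega.Half Cfsg.Agent.Omega.MinPar
open Cfsg.Agent.Omega.Half.NatA
open Cfsg.Agent.Omega.NoFF.LinesPlug (CC)
open Cfsg.Agent.MinSimple.VModule (o2_isPGroup)
open Cfsg.Agent.Omega.NOne.Frame (norm_mem norm_mem' comm_mem_inf)
open scoped Pointwise

universe u

variable {G : Type u} [Group G] [Finite G] {S : Sylow 2 G} {P : Subgroup G}
variable {F : Type} [Field F] [Finite F] [CharP F 2] {k : ℕ}

/-- Case (Q). -/
structure CaseQ (M : NatK F (S : Subgroup G) P (zl (S : Subgroup G) P) ⊥ k) : Prop where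
  cfg : Cfg S P
  hE : ∀ v ∈ zl (S : Subgroup G) P, v ∈ o2 (CC (S : Subgroup G)) ↔ ∀ i, M.e v i 1 = 0

namespace CaseQ

variable {M : NatK F (S : Subgroup G) P (zl (S : Subgroup G) P) ⊥ k} (h : CaseQ M)
include h

theorem amb : Amb (S : Subgroup G) P (zl (S : Subgroup G) P) := amb_of_loc h.cfg.ctx.char2 S h.cfg.loc

theorem am : Am (CC (S : Subgroup G)) (zl (S : Subgroup G) P) :=
  ⟨h.cfg.V_le_CC, h.cfg.V_comm, h.cfg.V_sq, h.cfg.Q_norm_V⟩

theorem Q_le_P {f : G} (hf : f ∈ o2 (CC (S : Subgroup G))) : f ∈ P := h.cfg.S_le (h.cfg.Q_le_S hf)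

theorem comm_mem {f v : G} (hf : f ∈ o2 (CC (S : Subgroup G))) (hv : v ∈ zl (S : Subgroup G) P) :
    f * v * f⁻¹ * v⁻¹ ∈ zl (S : Subgroup G) P ⊓ o2 (CC (S : Subgroup G)) := by
  have := comm_mem_inf h.cfg.Q_norm_V (h.cfg.V_le_CC.trans (le_normalizer_o2 _)) hf hv
  rwa [inf_comm] at this

theorem snd {f v : G} (hf : f ∈ o2 (CC (S : Subgroup G))) (hv : v ∈ zl (S : Subgroup G) P) (i : Fin k) :
    M.e (f * v * f⁻¹) i 1 = M.e v i 1 := by
  have h1 := h.comm_mem hf hv
  have h2 := (h.hE _ h1.1).1 h1.2 i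
  rw [M.mul _ (h.amb.conj_mem (h.Q_le_P hf) hv) _ (inv_mem hv), e_inv M hv, Pi.add_apply, Pi.neg_apply,
    Pi.add_apply, Pi.neg_apply, add_neg_eq_zero] at h2
  exact h2

/-- `Q` fixes the summands -/
theorem mv {f : G} (hf : f ∈ o2 (CC (S : Subgroup G))) : Mv M f 1 := by
  obtain ⟨σ, hσ⟩ := M.perm f (h.Q_le_P hf)
  have h1 : σ = 1 := by
    ext1 i
    by_contra hne
    have hne' : σ i ≠ i := hne
    -- the vector at `σ i`
    have h2 := h.snd hf (em_mem M (σ i) ![0, 1]) (σ i)
    have h3 := (hσ _ (em_mem M (σ i) ![0, 1]) i).2 (e_em_ne M hne'.symm _)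
    rw [h3, e_em_self] at h2
    exact zero_ne_one h2
  rw [← h1]
  exact hσ

theorem e_conj {f v : G} (hf : f ∈ o2 (CC (S : Subgroup G))) (hv : v ∈ zl (S : Subgroup G) P) (i : Fin k) :
    M.e (f * v * f⁻¹) i = ph M f i i (M.e v i) :=
  NSix.e_conj h.amb (h.Q_le_P hf) (h.mv hf) hv i

theorem ph_snd {f : G} (hf : f ∈ o2 (CC (S : Subgroup G))) (i : Fin k) (x : Fin 2 → F) :
    ph M f i i x 1 = x 1 := by
  rw [ph, h.snd hf (em_mem M i x), e_em_self]

theorem ph_smul {f : G} (hf : f ∈ o2 (CC (S : Subgroup G))) (i : Fin k) (c : F) (x : Fin 2 → F) :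
    ph M f i i (c • x) = c • ph M f i i x := by
  obtain ⟨τ, hτ⟩ := exists_semi h.amb (h.Q_le_P hf) (h.mv hf) i
  have hτ' : ∀ (c : F) x, ph M f i i (c • x) = τ c • ph M f i i x := hτ
  have h1 : ∀ c, τ c = c := by
    intro c
    have h2 := congrFun (hτ' c ![0, 1]) 1
    rw [h.ph_snd hf, Pi.smul_apply, Pi.smul_apply, h.ph_snd hf] at h2
    simpa using h2.symm
  rw [hτ', h1]

/-- `f` on the line -/
theorem ph_line {f : G} (hf : f ∈ o2 (CC (S : Subgroup G))) (i : Fin k) : ph M f i i ![1, 0] = ![1, 0] := by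
  have hz : ph M f i i ![1, 0] 1 = 0 := by rw [h.ph_snd hf]; rfl
  obtain ⟨a, ha⟩ : ∃ a, ph M f i i ![1, 0] = ![a, 0] := by
    refine ⟨ph M f i i ![1, 0] 0, ?_⟩
    ext j
    fin_cases j
    · rfl
    · exact hz
  have h1 : ∀ c : F, f * em M i ![c, 0] * f⁻¹ = em M i ![a * c, 0] := by
    intro c
    apply inj M (h.amb.conj_mem (h.Q_le_P hf) (em_mem M i _)) (em_mem M i _)
    funext j
    by_cases hj : j = i
    · rw [hj, h.e_conj hf (em_mem M i _), e_em_self, e_em_self]
      have e1 : (![c, 0] : Fin 2 → F) = c • ![1, 0] := by simp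
      rw [e1, h.ph_smul hf, ha]
      simp [mul_comm]
    · rw [e_em_ne M hj]
      exact (h.mv hf _ (em_mem M i _) j).2 (e_em_ne M hj _)
  have h2 : ∀ m : ℕ, f ^ m * em M i ![1, 0] * (f ^ m)⁻¹ = em M i ![a ^ m, 0] := by
    intro m
    induction m with
    | zero => simp
    | succ m ih =>
      have e1 : f ^ (m + 1) * em M i ![1, 0] * (f ^ (m + 1))⁻¹ =
          f * (f ^ m * em M i ![1, 0] * (f ^ m)⁻¹) * f⁻¹ := by rw [pow_succ']; group
      rw [e1, ih, h1, pow_succ']
  obtain ⟨n, hn⟩ := (o2_isPGroup (CC (S : Subgroup G))) ⟨f, hf⟩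
  have hn' : f ^ 2 ^ n = 1 := congrArg Subtype.val hn
  have h3 := h2 (2 ^ n)
  rw [hn', one_mul, inv_one, mul_one] at h3
  have h4 := congrArg (fun v => M.e v i 0) h3
  simp only [e_em_self] at h4
  have h5 : a ^ 2 ^ n = 1 := by simpa using h4.symm
  have h6 : (a - 1) ^ 2 ^ n = 0 := by
    have : Fact (Nat.Prime 2) := ⟨Nat.prime_two⟩
    rw [sub_pow_char_pow, h5, one_pow, sub_self]
  have h7 : a = 1 := sub_eq_zero.1 (eq_zero_of_pow_eq_zero h6)
  rw [ha, h7]

/-- the coordinate `ν_i` -/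
noncomputable def nu (M : NatK F (S : Subgroup G) P (zl (S : Subgroup G) P) ⊥ k) (i : Fin k) (f : G) : F :=
  ph M f i i ![0, 1] 0

/-- **the action of `Q` on `V`** -/
theorem act {f v : G} (hf : f ∈ o2 (CC (S : Subgroup G))) (hv : v ∈ zl (S : Subgroup G) P) (i : Fin k) :
    M.e (f * v * f⁻¹) i = ![M.e v i 0 + nu M i f * M.e v i 1, M.e v i 1] := by
  rw [h.e_conj hf hv]
  have e1 : M.e v i = M.e v i 0 • ![1, 0] + M.e v i 1 • ![0, 1] := by
    ext j
    fin_cases j <;> simp
  have e2 : ph M f i i ![0, 1] = ![nu M i f, 1] := by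
    ext j
    fin_cases j
    · rfl
    · exact h.ph_snd hf i _
  conv_lhs => rw [e1]
  rw [ph_add h.amb (h.Q_le_P hf), h.ph_smul hf, h.ph_smul hf, h.ph_line hf, e2]
  ext j
  fin_cases j
  · simp [mul_comm]
  · simp

omit h in
theorem vec_eq {x : Fin 2 → F} (hx : x 1 = 0) : x = ![x 0, 0] := by
  ext j
  fin_cases j
  · rfl
  · exact hx

theorem nu_mul {w f : G} (hw : w ∈ o2 (CC (S : Subgroup G))) (hf : f ∈ o2 (CC (S : Subgroup G))) (i : Fin k) :
    nu M i (w * f) = nu M i w + nu M i f := by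
  have hv := em_mem M i ![0, 1]
  have e1 : w * f * em M i ![0, 1] * (w * f)⁻¹ = w * (f * em M i ![0, 1] * f⁻¹) * w⁻¹ := by group
  have h1 := h.act hw (h.amb.conj_mem (h.Q_le_P hf) hv) i
  rw [← e1, h.act hf hv i, e_em_self] at h1
  have h2 := congrFun h1 0
  simp only [Matrix.cons_val_zero, Matrix.cons_val_one, mul_one, zero_add] at h2
  have h3 : nu M i (w * f) = M.e (w * f * em M i ![0, 1] * (w * f)⁻¹) i 0 := rfl
  rw [h3, h2, add_comm]

/-- `V ∩ Q ≤ Z(Q)` -/
theorem cent {e w : G} (he : e ∈ zl (S : Subgroup G) P ⊓ o2 (CC (S : Subgroup G)))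
    (hw : w ∈ o2 (CC (S : Subgroup G))) : w * e = e * w := by
  have h0 := (h.hE e he.1).1 he.2
  have h1 : w * e * w⁻¹ = e := by
    apply inj M (h.amb.conj_mem (h.Q_le_P hw) he.1) he.1
    funext i
    rw [h.act hw he.1 i, h0 i, mul_zero, add_zero]
    exact (vec_eq (h0 i)).symm
  calc w * e = w * e * w⁻¹ * w := by group
    _ = e * w := by rw [h1]

theorem em_Q (i : Fin k) (x : F) : em M i ![x, 0] ∈ o2 (CC (S : Subgroup G)) := by
  refine (h.hE _ (em_mem M i _)).2 fun j => ?_
  by_cases hj : j = i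
  · rw [hj, e_em_self]; rfl
  · rw [e_em_ne M hj]; rfl

/-- the datum of `Spread.lean` -/
noncomputable def sp (i : Fin k) :
    Sp F (zl (S : Subgroup G) P) (o2 (CC (S : Subgroup G))) (fac M {i}) where
  l x := em M i ![x, 0]
  br v := M.e v i 1
  nu := nu M i
  UV := fac_le M _
  l_add x y := by
    rw [← em_add]
    congr 1
    ext j
    fin_cases j <;> simp
  l_one x hx := by
    have h1 := congrArg (fun v => M.e v i 0) hx
    simp only [e_em_self, e_one] at h1
    simpa using h1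
  l_U x := em_fac M i _
  l_Q x := h.em_Q i x
  br_surj a := ⟨em M i ![0, a], em_fac M i _, by rw [e_em_self]; rfl⟩
  nu_mul w hw f hf := h.nu_mul hw hf i
  act u hu w hw := by
    have huV := hu.1
    have h1 := h.amb.conj_mem (h.Q_le_P hw) (inv_mem huV)
    have e1 : u * w * u⁻¹ * w⁻¹ = u * (w * u⁻¹ * w⁻¹) := by group
    rw [e1]
    apply inj M (mul_mem huV h1) (em_mem M i _)
    rw [M.mul _ huV _ h1]
    funext j
    rw [Pi.add_apply]
    by_cases hj : j = i
    · rw [hj, e_em_self, h.act hw (inv_mem huV), e_inv M huV]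
      ext m
      fin_cases m
      · simp [CharTwo.neg_eq, mul_comm]
        rw [← add_assoc, CharTwo.add_self_eq_zero, zero_add]
      · simp
    · rw [e_em_ne M hj, hu.2 j hj, zero_add, h.act hw (inv_mem huV), e_inv M huV]
      ext m
      fin_cases m
      · simp [hu.2 j hj]
      · simp [hu.2 j hj]
  cent e he w hw := h.cent he hw

end CaseQ

end Cfsg.Agent.Omega.NO1.NSix

end

section


/-!
# (N6) of THEOREM WR (#15037, helper675), step 2: `L_i ∩ D = 1`
-/

set_option autoImplicit false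
set_option linter.unusedSectionVars false

namespace Cfsg.Agent.Omega.NO1.NSix

open Subgroup Cfsg Cfsg.Agent.ZN Cfsg.Agent.Omega.FFThm Cfsg.Agent.Omega.Half Cfsg.Agent.Omega.MinPar
open Cfsg.Agent.Omega.Half.NatA
open Cfsg.Agent.Omega.NoFF.LinesPlug (CC)
open Cfsg.Agent.Omega.NOne.Frame (norm_mem mem_conj' X)
open Cfsg.Agent.MinSimple.VModule (o2_isPGroup)
open scoped Pointwise

universe u

variable {G : Type u} [Group G] [Finite G] {S : Sylow 2 G} {P : Subgroup G}
variable {F : Type} [Field F] [Finite F] [CharP F 2] {k : ℕ}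

theorem em_line_add (M : NatK F (S : Subgroup G) P (zl (S : Subgroup G) P) ⊥ k) (i : Fin k) (x y : F) :
    em M i ![x + y, 0] = em M i ![x, 0] * em M i ![y, 0] := by
  rw [← em_add]
  congr 1
  ext j
  fin_cases j <;> simp

namespace CaseQ

variable {M : NatK F (S : Subgroup G) P (zl (S : Subgroup G) P) ⊥ k} (h : CaseQ M)
include h

/-- **Step 2.** -/
theorem line_tri (hk : 2 ≤ k) (i : Fin k) {y : G} (hyX : y ∈ X (fac M {i}) y)
    (hX : ¬ IsPGroup 2 (X (fac M {i}) y))
    (hgen : ∀ e ∈ zl (S : Subgroup G) P ⊓ o2 (CC (S : Subgroup G)), ∃ x : F, em M i ![x, 0] * e⁻¹ ∈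
      (zl (S : Subgroup G) P ⊓ o2 (CC (S : Subgroup G))) ⊓
        MulAut.conj y • (zl (S : Subgroup G) P ⊓ o2 (CC (S : Subgroup G)))) (x : F)
    (hx : em M i ![x, 0] ∈ MulAut.conj y • (zl (S : Subgroup G) P ⊓ o2 (CC (S : Subgroup G)))) : x = 0 := by
  classical
  by_contra hx0
  set E := zl (S : Subgroup G) P ⊓ o2 (CC (S : Subgroup G)) with hEdef
  set D := E ⊓ MulAut.conj y • E with hDdef
  have hemE : ∀ (j : Fin k) (z : F), em M j ![z, 0] ∈ E := fun j z => ⟨em_mem M j _, h.em_Q j z⟩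
  have hxD : em M i ![x, 0] ∈ D := ⟨hemE i x, hx⟩
  have hDV : D ≤ zl (S : Subgroup G) P := inf_le_left.trans inf_le_left
  -- every line meets `D`
  have hz : ∀ j : Fin k, ∃ z : F, z ≠ 0 ∧ em M j ![z, 0] ∈ D := by
    intro j
    by_contra hno
    push Not at hno
    have hex : ∀ z : F, ∃ ξ : F, em M i ![ξ, 0] * (em M j ![z, 0])⁻¹ ∈ D := fun z => hgen _ (hemE j z)
    choose ξ hξ using hex
    let f : F × Bool → F := fun p => ξ p.1 + if p.2 then x else 0
    have hb : ∀ b : Bool, em M i ![if b then x else 0, 0] ∈ D := by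
      intro b
      cases b
      · have e1 : (![if false = true then x else 0, 0] : Fin 2 → F) = 0 := by
          ext m
          fin_cases m <;> simp
        rw [e1, em_zero]
        exact one_mem D
      · exact hxD
    have hinj : Function.Injective f := by
      rintro ⟨z, b⟩ ⟨z', b'⟩ heq
      have h1 : ξ z + (if b then x else 0) = ξ z' + (if b' then x else 0) := heq
      have h2 : em M i ![ξ z, 0] * em M i ![if b then x else 0, 0] =
          em M i ![ξ z', 0] * em M i ![if b' then x else 0, 0] := by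
        rw [← em_line_add, ← em_line_add, h1]
      have h3 : em M j ![z, 0] * (em M j ![z', 0])⁻¹ ∈ D := by
        have e1 : em M j ![z, 0] * (em M j ![z', 0])⁻¹ =
            (em M i ![ξ z, 0] * (em M j ![z, 0])⁻¹)⁻¹ * (em M i ![ξ z, 0] * (em M i ![ξ z', 0])⁻¹) *
              (em M i ![ξ z', 0] * (em M j ![z', 0])⁻¹) := by group
        rw [e1]
        refine mul_mem (mul_mem (inv_mem (hξ z)) ?_) (hξ z')
        have h4 : em M i ![ξ z, 0] = em M i ![ξ z', 0] * em M i ![if b' then x else 0, 0] *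
            (em M i ![if b then x else 0, 0])⁻¹ := by rw [← h2]; group
        have hc : em M i ![ξ z', 0] * (em M i ![if b' then x else 0, 0] * (em M i ![if b then x else 0, 0])⁻¹) =
            em M i ![if b' then x else 0, 0] * (em M i ![if b then x else 0, 0])⁻¹ * em M i ![ξ z', 0] :=
          h.amb.comm _ (em_mem M i _) _ (mul_mem (em_mem M i _) (inv_mem (em_mem M i _)))
        rw [h4, mul_assoc (em M i ![ξ z', 0]), hc, mul_inv_cancel_right]
        exact mul_mem (hb b') (inv_mem (hb b))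
      have h5 : z = z' := by
        by_contra hne
        refine hno (z - z') (sub_ne_zero.2 hne) ?_
        have e1 : em M j ![z - z', 0] = em M j ![z, 0] * (em M j ![z', 0])⁻¹ := by
          rw [eq_mul_inv_iff_mul_eq, ← em_line_add, sub_add_cancel]
        rwa [e1]
      subst h5
      have h6 := add_left_cancel h1
      have h7 : b = b' := by
        cases b <;> cases b'
        · rfl
        · exact absurd h6.symm hx0
        · exact absurd h6 hx0
        · rfl
      rw [h7]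
    have hle := Nat.card_le_card_of_injective f hinj
    rw [Nat.card_prod] at hle
    have h2 : Nat.card Bool = 2 := by simp
    rw [h2] at hle
    have h3 : 0 < Nat.card F := Nat.card_pos
    omega
  choose z hz0 hzD using hz
  obtain ⟨B₀, hB₀, hi⟩ := exists_blk S M h.amb hk i
  have hB := hB₀.compl
  obtain ⟨w, hw, hwe⟩ := M.surj fun j => if j ∈ B₀ᶜ then ![z j, 0] else 0
  have hwB : w ∈ fac M B₀ᶜ := ⟨hw, fun j hj => by rw [hwe]; exact if_neg hj⟩
  have hfull : ∀ j ∈ B₀ᶜ, M.e w j ≠ 0 := by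
    intro j hj h0
    rw [hwe] at h0
    simp only [if_pos hj] at h0
    exact hz0 j (congrFun h0 0)
  have hwD : w ∈ D := by
    refine mem_of_em M hw fun j => ?_
    rw [hwe]
    by_cases hj : j ∈ B₀ᶜ
    · simp only [if_pos hj]
      exact hzD j
    · simp only [if_neg hj]
      rw [em_zero]
      exact one_mem D
  have happ := (app_nat h.cfg.ctx.char2 S h.amb hB hwB hfull).1
  rw [compl_compl] at happ
  have hU : fac M {i} ≤ fac M B₀ := fun v hv => ⟨hv.1, fun j hj => hv.2 j fun h1 => hj (by rw [h1]; exact hi)⟩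
  have hXC : X (fac M {i}) y ≤ centralizer ({w} : Set G) := by
    intro t ht
    rw [mem_centralizer_singleton_iff]
    exact NOne.NearFF.cent_of_fr (Q := o2 (CC (S : Subgroup G))) h.cfg.V_comm t
      (sup_le_sup (fac_le M _) (NoFF.Basic.conj_le_iff.2 (fac_le M _)) ht) w hwD
  apply hX
  refine (o2_isPGroup (centralizer ({w} : Set G))).to_le (sup_le (hU.trans happ) ?_)
  intro t ht
  obtain ⟨a, ha, rfl⟩ := mem_conj'.1 ht
  exact norm_mem (MinSimple.VModule.le_normalizer_o2 _ (hXC hyX)) (happ (hU ha))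

/-- **Steps 1-4 of (N6)** for the `i`-th summand. -/
theorem exists_D (hk : 2 ≤ k) (i : Fin k) :
    ∃ D ≤ zl (S : Subgroup G) P ⊓ o2 (CC (S : Subgroup G)),
      (∀ z ∈ zl (S : Subgroup G) P ⊓ o2 (CC (S : Subgroup G)), (∀ c ∈ CC (S : Subgroup G), c * z = z * c) → z ∈ D) ∧
      (∀ e ∈ zl (S : Subgroup G) P ⊓ o2 (CC (S : Subgroup G)), ∃ x : F, em M i ![x, 0] * e ∈ D) ∧
      (∀ x : F, em M i ![x, 0] ∈ D → x = 0) ∧
      ∀ a : F, a ≠ 0 → ∃ ρ ∈ CC (S : Subgroup G), (∀ d ∈ D, ρ * d * ρ⁻¹ = d) ∧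
        ∀ x : F, ρ * em M i ![x, 0] * ρ⁻¹ = em M i ![a * x, 0] := by
  refine spread h.am (h.sp i) (fun hle => ?_) fun y _ hyX hX hgen x hx => h.line_tri hk i hyX hX hgen x hx
  have h1 := (h.hE _ (em_mem M i ![0, 1])).1 (hle (em_fac M i _)) i
  rw [e_em_self] at h1
  exact one_ne_zero h1

end CaseQ

end Cfsg.Agent.Omega.NO1.NSix

end

section


/-!
# A 2-group `B / K` of automizers is conjugate into a Sylow group (project OMEGA, helper675)

`K ≤ B ≤ N`, `K` normal in `N`, `b² ∈ K` for `b ∈ B`, `S ≤ N` a Sylow 2-subgroup of `G`: there is `n ∈ N` with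
`n b n⁻¹ ∈ S K` for all `b ∈ B`.
-/

set_option autoImplicit false

namespace Cfsg.Agent.Omega.NO1.NSix

open Subgroup
open scoped Pointwise

/-- A Sylow subgroup covers a quotient of `2`-power exponent. -/
theorem sylow_cover {B : Type*} [Group B] [Finite B] (R : Sylow 2 B) (K : Subgroup B) [K.Normal]
    (hsq : ∀ b : B, b * b ∈ K) (b : B) : ∃ r ∈ R, r⁻¹ * b ∈ K := by
  have : Fact (Nat.Prime 2) := ⟨Nat.prime_two⟩
  have hq : IsPGroup 2 (B ⧸ K) := by
    intro x
    obtain ⟨b, rfl⟩ := QuotientGroup.mk'_surjective K x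
    refine ⟨1, ?_⟩
    rw [pow_one, pow_two, ← map_mul]
    exact (QuotientGroup.eq_one_iff _).2 (hsq b)
  let R' : Sylow 2 (B ⧸ K) := R.mapSurjective (QuotientGroup.mk'_surjective K)
  have hR' : (R' : Subgroup (B ⧸ K)) = ⊤ := by
    have h1 : IsPGroup 2 (⊤ : Subgroup (B ⧸ K)) := hq.to_subgroup ⊤
    exact (R'.is_maximal' h1 le_top).symm
  have h2 : QuotientGroup.mk' K b ∈ (R' : Subgroup (B ⧸ K)) := by rw [hR']; trivial
  obtain ⟨r, hr, hrb⟩ := h2
  refine ⟨r, hr, ?_⟩
  rw [← QuotientGroup.eq]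
  exact hrb

theorem exists_conj_mem {G : Type*} [Group G] [Finite G] (S : Sylow 2 G) {N K B : Subgroup G}
    (hSN : (S : Subgroup G) ≤ N) (hKN : N ≤ normalizer (K : Set G)) (hBN : B ≤ N)
    (hsq : ∀ b ∈ B, b * b ∈ K) :
    ∃ n ∈ N, ∀ b ∈ B, ∃ s ∈ S, ∃ κ ∈ K, n * b * n⁻¹ = s * κ := by
  have : Fact (Nat.Prime 2) := ⟨Nat.prime_two⟩
  obtain ⟨R⟩ : Nonempty (Sylow 2 B) := inferInstance
  have hKB : (K.subgroupOf B).Normal := by
    constructor
    rintro ⟨κ, hκ⟩ h1 ⟨b, hb⟩
    rw [mem_subgroupOf] at h1 ⊢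
    exact (mem_normalizer_iff.1 (hKN (hBN hb)) κ).1 h1
  -- conjugate `R` into `S` inside `N`
  let Rn : Subgroup N := ((R : Subgroup B).map B.subtype).subgroupOf N
  have hRn : IsPGroup 2 Rn := by
    have h1 : IsPGroup 2 ((R : Subgroup B).map B.subtype) := R.isPGroup'.map _
    exact h1.comap_of_injective N.subtype N.subtype_injective
  obtain ⟨R₁, hR₁⟩ := hRn.exists_le_sylow
  obtain ⟨n, hn⟩ := MulAction.exists_smul_eq N R₁ (S.subtype hSN)
  refine ⟨n, n.2, fun b hb => ?_⟩
  obtain ⟨r, hr, hrb⟩ := sylow_cover R (K.subgroupOf B) (fun b => by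
    rw [mem_subgroupOf]; exact hsq b b.2) ⟨b, hb⟩
  rw [mem_subgroupOf] at hrb
  have hr1 : (⟨(r : G), hBN r.2⟩ : N) ∈ Rn := ⟨r, hr, rfl⟩
  have hr2 : n * ⟨(r : G), hBN r.2⟩ * n⁻¹ ∈ n • R₁ := by
    have : n * ⟨(r : G), hBN r.2⟩ * n⁻¹ ∈ MulAut.conj n • (R₁ : Subgroup N) :=
      Subgroup.smul_mem_pointwise_smul _ _ _ (hR₁ hr1)
    exact this
  rw [hn] at hr2
  have hr3 : (n : G) * r * (n : G)⁻¹ ∈ (S : Subgroup G) := hr2
  refine ⟨_, hr3, n * ((r : G)⁻¹ * b) * (n : G)⁻¹, ?_, by group⟩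
  exact (mem_normalizer_iff.1 (hKN n.2) _).1 hrb

end Cfsg.Agent.Omega.NO1.NSix

end

section


/-!
# Semilinear monomial involutions with the same large fixed space are equal

Project OMEGA, THEOREM WR (N6), step 6 (bb OMEGA #15037).
-/

set_option autoImplicit false

namespace Cfsg.Agent.Omega.NO1.NSix

/-- `s` is additive and monomial: it sends the `i`-th axis to the `σ i`-th by a semilinear map. -/
structure Mono {F : Type} [Field F] {k : ℕ} (s : (Fin k → F) → Fin k → F) : Prop where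
  add : ∀ x y, s (x + y) = s x + s y
  mono : ∃ σ : Equiv.Perm (Fin k), ∀ i, ∃ (a : F) (τ : F ≃+* F), a ≠ 0 ∧ ∀ x, s x (σ i) = a * τ (x i)

variable {F : Type} [Field F] {k : ℕ}

/-- an additive involution in characteristic 2 has a nonzero fixed point -/
theorem exists_fix [CharP F 2] {f : F → F} (hadd : ∀ x y, f (x + y) = f x + f y) (h2 : ∀ t, f (f t) = t) :
    ∃ t, t ≠ 0 ∧ f t = t := by
  by_cases h : f 1 = 1
  · exact ⟨1, one_ne_zero, h⟩
  · refine ⟨1 + f 1, ?_, ?_⟩
    · intro h0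
      apply h
      have h1 : (1 : F) + 1 = 0 := CharTwo.add_self_eq_zero 1
      linear_combination h0 - h1
    · rw [hadd, h2, add_comm]

/-- an involutory automorphism of a field is determined by its fixed points -/
theorem aut_eq {τ τ' : F ≃+* F} (h2 : ∀ y, τ (τ y) = y) (hfix : ∀ y, τ y = y ↔ τ' y = y) (y : F) :
    τ' y = τ y := by
  have h1 : τ' (y + τ y) = y + τ y := by
    rw [← hfix, map_add, h2, add_comm]
  have h3 : τ' (y * τ y) = y * τ y := by
    rw [← hfix, map_mul, h2, mul_comm]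
  rw [map_add] at h1
  rw [map_mul] at h3
  have h4 : (τ' y - y) * (τ' y - τ y) = 0 := by
    linear_combination τ' y * h1 - h3
  rcases mul_eq_zero.mp h4 with h5 | h5
  · have h6 := sub_eq_zero.mp h5
    have h7 := (hfix y).mpr h6
    rw [h6, h7]
  · exact sub_eq_zero.mp h5

/-- the case of an axis moved by `s` -/
theorem same_of_moved [Finite F] [CharP F 2] {s s' : (Fin k → F) → Fin k → F}
    (h : Mono s) (h' : Mono s') (h2 : ∀ x, s (s x) = x) (h2' : ∀ x, s' (s' x) = x)
    (hc : ∀ x, s x = x ↔ s' x = x)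
    (hi : Nat.card F ^ k ≤ Nat.card F * Nat.card {x : Fin k → F // s x = x})
    {σ : Equiv.Perm (Fin k)} (hσ : ∀ i, ∃ (a : F) (τ : F ≃+* F), a ≠ 0 ∧ ∀ x, s x (σ i) = a * τ (x i))
    {j : Fin k} (hj : σ j ≠ j) : s = s' := by
  classical
  obtain ⟨σ', hσ'⟩ := h'.mono
  choose a τ ha hs using hσ
  choose a' τ' ha' hs' using hσ'
  have hone : ∀ i m : Fin k, ∀ t : F, i ≠ m → (Pi.single i t : Fin k → F) m = 0 := fun i m t him => by
    rw [Pi.single_apply, if_neg (Ne.symm him)]
  -- the values on the axes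
  have hval : ∀ i t, s (Pi.single i t) = Pi.single (σ i) (a i * τ i t) := by
    intro i t
    funext m
    obtain ⟨l, rfl⟩ := σ.surjective m
    rw [hs]
    by_cases hl : l = i
    · subst hl
      rw [Pi.single_eq_same, Pi.single_eq_same]
    · rw [hone i l t (Ne.symm hl), map_zero, mul_zero, hone _ _ _ (fun e => hl (σ.injective e).symm)]
  have hval' : ∀ i t, s' (Pi.single i t) = Pi.single (σ' i) (a' i * τ' i t) := by
    intro i t
    funext m
    obtain ⟨l, rfl⟩ := σ'.surjective m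
    rw [hs']
    by_cases hl : l = i
    · subst hl
      rw [Pi.single_eq_same, Pi.single_eq_same]
    · rw [hone i l t (Ne.symm hl), map_zero, mul_zero, hone _ _ _ (fun e => hl (σ'.injective e).symm)]
  -- `s` has no fixed point on the axis
  have hfix : ∀ t, s (Pi.single j t) = Pi.single j t → t = 0 := by
    intro t ht
    rw [hval] at ht
    have h1 := congrFun ht (σ j)
    rw [Pi.single_eq_same, hone _ _ _ hj.symm] at h1
    have h3 := (mul_eq_zero.mp h1).resolve_left (ha j)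
    exact (map_eq_zero (τ j)).mp h3
  -- `s'` moves the axis
  have hj' : σ' j ≠ j := by
    intro e
    have h3 : ∀ t, s' (Pi.single j t) = Pi.single j (a' j * τ' j t) := fun t => by rw [hval', e]
    obtain ⟨t, ht0, ht⟩ := exists_fix (f := fun t => a' j * τ' j t)
      (fun x y => by rw [map_add, mul_add]) (fun t => by
        have h4 := h2' (Pi.single j t)
        rw [h3, h3] at h4
        exact Pi.single_injective j h4)
    apply ht0
    apply hfix
    rw [hc, h3]
    have ht' : a' j * τ' j t = t := ht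
    rw [ht']
  -- they agree on the axis
  have hax : ∀ t, s' (Pi.single j t) = s (Pi.single j t) := by
    have h3 : ∀ t, s' (Pi.single j t) + s' (s (Pi.single j t)) = Pi.single j t + s (Pi.single j t) := by
      intro t
      rw [← h'.add, ← hc, h.add, h2, add_comm]
    have h4 : ∀ t, a' j * τ' j t = (s (Pi.single j t)) (σ' j) := by
      intro t
      have h5 := congrFun (h3 t) (σ' j)
      rw [Pi.add_apply, Pi.add_apply, hval', hval, hval', Pi.single_eq_same,
        hone (σ' (σ j)) (σ' j) _ (fun e => hj (σ'.injective e)), hone j (σ' j) _ hj'.symm, add_zero,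
        zero_add] at h5
      rw [hval]
      exact h5
    have h6 : σ' j = σ j := by
      by_contra hne
      have h7 := h4 1
      rw [hval, hone _ _ _ (Ne.symm hne), map_one, mul_one] at h7
      exact ha' j h7
    intro t
    rw [hval', h4 t, h6, hval, Pi.single_eq_same]
  -- `F ^ k` is the sum of the fixed space and the axis
  let S : (Fin k → F) →+ (Fin k → F) := AddMonoidHom.mk' s h.add
  have hS : ∀ x, S x = s x := fun x => rfl
  let φ : {x : Fin k → F // s x = x} × F → (Fin k → F) := fun p => (p.1 : Fin k → F) + (Pi.single j p.2 : Fin k → F)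
  have hφ : Function.Injective φ := by
    rintro ⟨⟨c, hc1⟩, t⟩ ⟨⟨c', hc1'⟩, t'⟩ hcc
    have hcc' : c + Pi.single j t = c' + Pi.single j t' := hcc
    have h3 : (Pi.single j (t - t') : Fin k → F) = c' - c := by
      have : (Pi.single j (t - t') : Fin k → F) = Pi.single j t - Pi.single j t' := by
        rw [← Pi.single_sub]
      rw [this]
      linear_combination hcc'
    have h4 : t - t' = 0 := by
      apply hfix
      rw [h3, ← hS, map_sub, hS, hS, hc1, hc1']
    have h5 : t = t' := sub_eq_zero.mp h4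
    subst h5
    have h6 : c = c' := add_right_cancel hcc'
    subst h6
    rfl
  have hcard : Nat.card (Fin k → F) ≤ Nat.card ({x : Fin k → F // s x = x} × F) := by
    rw [Nat.card_prod, Nat.card_fun, Nat.card_fin, mul_comm]
    exact hi
  have hsurj : Function.Surjective φ :=
    ((Nat.bijective_iff_injective_and_card φ).mpr
      ⟨hφ, le_antisymm (Nat.card_le_card_of_injective φ hφ) hcard⟩).2
  funext x
  obtain ⟨⟨⟨c, hc1⟩, t⟩, rfl⟩ := hsurj x
  change s (c + Pi.single j t) = s' (c + Pi.single j t)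
  rw [h.add, h'.add, hax, hc1, (hc c).mp hc1]

/-- **Step 6 of (N6)** -/
theorem same {F : Type} [Field F] [Finite F] [CharP F 2] {k : ℕ} {s s' : (Fin k → F) → Fin k → F}
    (h : Mono s) (h' : Mono s') (h2 : ∀ x, s (s x) = x) (h2' : ∀ x, s' (s' x) = x)
    (hc : ∀ x, s x = x ↔ s' x = x)
    (hi : Nat.card F ^ k ≤ Nat.card F * Nat.card {x : Fin k → F // s x = x}) : s = s' := by
  classical
  obtain ⟨σ, hσ⟩ := h.mono
  by_cases hm : ∃ j, σ j ≠ j
  · obtain ⟨j, hj⟩ := hm
    exact same_of_moved h h' h2 h2' hc hi hσ hj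
  obtain ⟨σ', hσ'⟩ := h'.mono
  by_cases hm' : ∃ j, σ' j ≠ j
  · obtain ⟨j, hj⟩ := hm'
    refine (same_of_moved h' h h2' h2 (fun x => (hc x).symm) ?_ hσ' hj).symm
    have h3 : Nat.card {x : Fin k → F // s' x = x} = Nat.card {x : Fin k → F // s x = x} :=
      Nat.card_congr (Equiv.subtypeEquivRight fun x => (hc x).symm)
    rw [h3]; exact hi
  push Not at hm hm'
  choose a τ ha hs using hσ
  choose a' τ' ha' hs' using hσ'
  have hs1 : ∀ i x, s x i = a i * τ i (x i) := fun i x => by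
    have := hs i x
    rwa [hm i] at this
  have hs1' : ∀ i x, s' x i = a' i * τ' i (x i) := fun i x => by
    have := hs' i x
    rwa [hm' i] at this
  -- on one axis
  have key : ∀ i t, a i * τ i t = a' i * τ' i t := by
    intro i
    have hone : ∀ m : Fin k, ∀ t : F, i ≠ m → (Pi.single i t : Fin k → F) m = 0 := fun m t him => by
      rw [Pi.single_apply, if_neg (Ne.symm him)]
    have hval : ∀ t, s (Pi.single i t) = Pi.single i (a i * τ i t) := by
      intro t
      funext m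
      rw [hs1]
      by_cases hmi : m = i
      · subst hmi
        rw [Pi.single_eq_same, Pi.single_eq_same]
      · rw [hone m t (Ne.symm hmi), map_zero, mul_zero, hone m _ (Ne.symm hmi)]
    have hval' : ∀ t, s' (Pi.single i t) = Pi.single i (a' i * τ' i t) := by
      intro t
      funext m
      rw [hs1']
      by_cases hmi : m = i
      · subst hmi
        rw [Pi.single_eq_same, Pi.single_eq_same]
      · rw [hone m t (Ne.symm hmi), map_zero, mul_zero, hone m _ (Ne.symm hmi)]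
    have hf2 : ∀ t, a i * τ i (a i * τ i t) = t := by
      intro t
      have h4 := h2 (Pi.single i t)
      rw [hval, hval] at h4
      exact Pi.single_injective i h4
    have hcc : ∀ t, a i * τ i t = t ↔ a' i * τ' i t = t := by
      intro t
      have h4 := hc (Pi.single i t)
      rw [hval, hval'] at h4
      exact ⟨fun e => Pi.single_injective i (h4.mp (by rw [e])), fun e => Pi.single_injective i (h4.mpr (by rw [e]))⟩
    obtain ⟨x₀, hx0, hx⟩ := exists_fix (f := fun t => a i * τ i t) (fun x y => by rw [map_add, mul_add]) hf2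
    have hx1 : a i * τ i x₀ = x₀ := hx
    have hx2 : a' i * τ' i x₀ = x₀ := (hcc x₀).mp hx1
    have e1 : ∀ y, a i * τ i (y * x₀) = τ i y * x₀ := by
      intro y
      rw [map_mul]
      linear_combination τ i y * hx1
    have e2 : ∀ y, a' i * τ' i (y * x₀) = τ' i y * x₀ := by
      intro y
      rw [map_mul]
      linear_combination τ' i y * hx2
    have e3 : ∀ y, τ i (τ i y) = y := by
      intro y
      have h4 := hf2 (y * x₀)
      rw [e1, e1] at h4
      exact mul_right_cancel₀ hx0 h4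
    have e4 : ∀ y, τ i y = y ↔ τ' i y = y := by
      intro y
      have h4 := hcc (y * x₀)
      rw [e1, e2] at h4
      exact ⟨fun e => mul_right_cancel₀ hx0 (h4.mp (by rw [e])), fun e => mul_right_cancel₀ hx0 (h4.mpr (by rw [e]))⟩
    intro t
    have e5 : t = t / x₀ * x₀ := by rw [div_mul_cancel₀ _ hx0]
    rw [e5, e1, e2, aut_eq e3 e4]
  funext x i
  rw [hs1, hs1', key]

end Cfsg.Agent.Omega.NO1.NSix

end
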